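import Mathlib

/-!
helper19, piece (AR4) of helper16's Brauer 1943 arithmetic: `y = u p - e`, `w = h p - 1`,
`y w = (1 + n p) e`, `t e = p - 1`, `t ≥ 2`, `2 n ≤ p + 1` force `h = 1` and `u t = n + 1`.
-/

set_option autoImplicit false

namespace Cfsg.Agent.Helper19.B43

theorem ar_exc_neg (p e t n y w u h : ℕ) (hp : 2 ≤ p) (hte : t * e = p - 1) (ht : 2 ≤ t)
    (hy : y + e = u * p) (hw : w + 1 = h * p) (hprod : y * w = (1 + n * p) * e)
    (hn : 2 * n ≤ p + 1) (hn1 : 1 ≤ n) : h = 1 ∧ u * t = n + 1 := by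
  -- basic facts
  have hpe : p = t * e + 1 := by omega
  have he1 : 1 ≤ e := by
    rcases Nat.eq_zero_or_pos e with h0 | h0
    · rw [h0, mul_zero] at hte; omega
    · exact h0
  have hu1 : 1 ≤ u := by
    rcases Nat.eq_zero_or_pos u with h0 | h0
    · rw [h0, zero_mul] at hy; omega
    · exact h0
  have hh1 : 1 ≤ h := by
    rcases Nat.eq_zero_or_pos h with h0 | h0
    · rw [h0, zero_mul] at hw; omega
    · exact h0
  -- pass to the integers
  have hyZ : (y : ℤ) = u * p - e := by
    have := congrArg (fun x : ℕ => (x : ℤ)) hy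
    push_cast at this
    linarith
  have hwZ : (w : ℤ) = h * p - 1 := by
    have := congrArg (fun x : ℕ => (x : ℤ)) hw
    push_cast at this
    linarith
  have hprodZ : (y : ℤ) * w = (1 + n * p) * e := by exact_mod_cast hprod
  have hpZ : (p : ℤ) = t * e + 1 := by exact_mod_cast hpe
  -- the key identity `u h p = u + e h + n e`
  have key : (u : ℤ) * h * p = u + e * h + n * e := by
    rw [hyZ, hwZ] at hprodZ
    have h1 : (p : ℤ) * ((u : ℤ) * h * p - u - e * h - n * e) = 0 := by linear_combination hprodZ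
    have hp0 : (p : ℤ) ≠ 0 := by
      have : (2 : ℤ) ≤ p := by exact_mod_cast hp
      omega
    rcases mul_eq_zero.mp h1 with h2 | h2
    · exact absurd h2 hp0
    · linarith
  -- `u (h - 1) = e (h + n - u h t)`
  have key2 : (u : ℤ) * (h - 1) = e * (h + n - u * h * t) := by
    rw [hpZ] at key
    linear_combination key
  have heZ : (1 : ℤ) ≤ e := by exact_mod_cast he1
  have huZ : (1 : ℤ) ≤ u := by exact_mod_cast hu1
  have hhZ : (1 : ℤ) ≤ h := by exact_mod_cast hh1
  have htZ : (2 : ℤ) ≤ t := by exact_mod_cast ht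
  have hnZ : (2 : ℤ) * n ≤ t * e + 2 := by
    have : (2 : ℤ) * n ≤ p + 1 := by exact_mod_cast hn
    linarith
  have hh : h = 1 := by
    by_contra hne
    have hh2 : (2 : ℤ) ≤ h := by
      have : 2 ≤ h := by omega
      exact_mod_cast this
    set m : ℤ := h + n - u * h * t with hm
    have hpos : (1 : ℤ) ≤ u * (h - 1) := by
      have := mul_le_mul huZ (show (1 : ℤ) ≤ h - 1 by linarith) (by norm_num) (by linarith)
      linarith
    have hm1 : 1 ≤ m := by
      by_contra hcon
      have hm0 : m ≤ 0 := by omega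
      have : (e : ℤ) * m ≤ 0 := mul_nonpos_of_nonneg_of_nonpos (by linarith) hm0
      linarith
    have hele : (e : ℤ) ≤ u * (h - 1) := by
      rw [key2]
      have := mul_le_mul_of_nonneg_left hm1 (show (0 : ℤ) ≤ e by linarith)
      linarith
    have htu : (2 : ℤ) ≤ t * u := by
      have := mul_le_mul htZ huZ (by norm_num) (by linarith)
      linarith
    have h1 : (2 : ℤ) * n = 2 * (u * h * t) + 2 * m - 2 * h := by rw [hm]; ring
    have h2 : (t : ℤ) * e ≤ t * (u * (h - 1)) := mul_le_mul_of_nonneg_left hele (by linarith)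
    have h3 : (2 : ℤ) * h ≤ (t * u) * h := mul_le_mul_of_nonneg_right htu (by linarith)
    have hX : (u : ℤ) * h * t = t * u * h := by ring
    have hY : (t : ℤ) * (u * (h - 1)) = t * u * h - t * u := by ring
    rw [hX] at h1
    rw [hY] at h2
    linarith
  refine ⟨hh, ?_⟩
  -- `h = 1`: `u t e = e (n + 1)`
  have hhZ1 : (h : ℤ) = 1 := by exact_mod_cast hh
  rw [hhZ1] at key2
  have h4 : (e : ℤ) * (1 + n - u * 1 * t) = 0 := by linarith
  have h5 : (1 : ℤ) + n - u * 1 * t = 0 := by
    rcases mul_eq_zero.mp h4 with h6 | h6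
    · omega
    · exact h6
  have h6 : (u : ℤ) * t = n + 1 := by linarith
  exact_mod_cast h6

end Cfsg.Agent.Helper19.B43
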